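import Mathlib

/-!
The relators 1-44 of the presentation of Ly on the letters a, b, c, c2, c3, c4, c5, d, e and their
inverses (generated data).
-/

set_option autoImplicit false

namespace Cfsg.Agent.H27.LyG2

/-- inverse letters -/
def iv : List ℕ := [1,0,3,2,5,4,7,6,9,8,11,10,13,12,15,14,17,16]

/-- relators -/
def rels : List (List ℕ) := [[0,0,0,0,0,0,0,0],
  [2,2,2,2,2],
  [0,2,0,2,0,2,0,2],
  [1,1,3,0,0,2],
  [1,3,0,2,1,3,0,2,1,3,0,2],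
  [6,1,5,0],
  [8,3,5,2],
  [10,2,5,3],
  [12,7,5,6,4],
  [4,4,4,4,4],
  [12,12,12,12,12],
  [5,13,4,12],
  [7,13,6,12],
  [9,13,8,12],
  [11,13,10,12],
  [5,9,4,8,12,12],
  [5,11,4,10,13,13],
  [7,9,6,8,12],
  [7,11,6,10],
  [9,11,8,10,12],
  [1,6,0,4,4],
  [1,8,0,11,5,8,8],
  [1,10,0,11,5,11,8,6,5],
  [1,12,0,13,13],
  [3,6,2,10,4,10,9,7],
  [3,8,2,8,8,11,5,5],
  [3,12,2,13],
  [16,15,5,15,2,1,3,5,15,1,5,0,5,1,4,0,2,2],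
  [16,16],
  [17,4,16,4,3,9,3],
  [17,8,16,0,10,4,7,1,3,3],
  [17,10,16,11,8,3,3],
  [17,12,16,10,5,8,5],
  [16,0,0,16,10,13,5,1,2,1,3,3,1],
  [17,2,16,10,10,8,5],
  [16,0,2,2,0,3,0,16,10,13,5,1,1],
  [16,6,16,7,16,6,11,0,8,0,0,0],
  [14,17,3,6,1,17,1,17,1,12,10,4,2,0,3,3,1],
  [14,14,1,1,1,1],
  [3,15,2,14],
  [15,0,14,1,1,1],
  [14,12,14,12,14,12,14,12,14,12],
  [14,12,14,13,14,12,1,1]]

/-- fifth powers of c2, c3, c4 -/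
def fifths : List (List ℕ) := [[6,6,6,6,6], [8,8,8,8,8], [10,10,10,10,10]]

end Cfsg.Agent.H27.LyG2
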