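import Cfsg.Agent.H45.CosetSound
import Cfsg.Agent.H27.LyG2.Rels
import Mathlib.GroupTheory.PresentedGroup

/-!
The group `K44` presented by the relators 1-44 on the letters a, b, c, c2, c3, c4, c5, d, e.
-/

set_option autoImplicit false

namespace Cfsg.Agent.H27.LyG2

open Cfsg.Agent.H45

/-- letters of an assignment of the nine generators -/
def lett {G : Type*} [Group G] (f : Fin 9 → G) (l : ℕ) : G :=
  if h : l < 18 then (if l % 2 = 0 then f ⟨l / 2, by omega⟩ else (f ⟨l / 2, by omega⟩)⁻¹) else 1

theorem lett_linv {G : Type*} [Group G] (f : Fin 9 → G) :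
    ∀ l, lett f (linv iv l) = (lett f l)⁻¹ := by
  intro l
  by_cases h : l < 18
  · interval_cases l <;> simp [linv, iv, lett]
  · rw [linv, List.getD_eq_default _ _ (by simpa [iv] using Nat.le_of_not_lt h)]
    simp [lett, h]

theorem map_lett {G H : Type*} [Group G] [Group H] (φ : G →* H) (f : Fin 9 → G) (l : ℕ) :
    φ (lett f l) = lett (fun g => φ (f g)) l := by
  unfold lett
  split_ifs <;> simp

theorem map_evalW {G H : Type*} [Group G] [Group H] (φ : G →* H) (e : ℕ → G) (w : List ℕ) :
    φ (evalW e w) = evalW (fun l => φ (e l)) w := by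
  simp [evalW, map_list_prod, List.map_map, Function.comp_def]

theorem evalW_congr {G : Type*} [Group G] {e e' : ℕ → G} {w : List ℕ}
    (h : ∀ l ∈ w, e l = e' l) : evalW e w = evalW e' w :=
  congrArg List.prod (List.map_congr_left h)

/-- the nine generators satisfy the relators -/
def Holds {G : Type*} [Group G] (f : Fin 9 → G) : Prop := ∀ w ∈ rels, evalW (lett f) w = 1

/-- the defining relators -/
def relSet : Set (FreeGroup (Fin 9)) := {x | ∃ w ∈ rels, evalW (lett FreeGroup.of) w = x}

/-- the presented group -/
abbrev K44 : Type := PresentedGroup relSet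

/-- its generators -/
def kgen (g : Fin 9) : K44 := PresentedGroup.of g

theorem kgen_holds : Holds kgen := by
  intro w hw
  have h := PresentedGroup.one_of_mem (rels := relSet) ⟨w, hw, rfl⟩
  rw [map_evalW] at h
  rw [← h]
  exact evalW_congr fun l _ => (map_lett _ _ _).symm

/-- the homomorphism given by nine elements satisfying the relators -/
def toK {G : Type*} [Group G] {f : Fin 9 → G} (hf : Holds f) : K44 →* G :=
  PresentedGroup.toGroup (f := f) (by
    rintro _ ⟨w, hw, rfl⟩
    rw [map_evalW, ← hf w hw]
    exact evalW_congr fun l _ => by simp [map_lett])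

theorem toK_of {G : Type*} [Group G] {f : Fin 9 → G} (hf : Holds f) (g : Fin 9) :
    toK hf (kgen g) = f g := PresentedGroup.toGroup.of _

theorem range_toK {G : Type*} [Group G] {f : Fin 9 → G} (hf : Holds f) :
    (toK hf).range = Subgroup.closure (Set.range f) := by
  rw [MonoidHom.range_eq_map, ← PresentedGroup.closure_range_of relSet, MonoidHom.map_closure,
    ← Set.range_comp]
  exact congrArg _ (congrArg _ (funext (toK_of hf)))

/-- a subgroup containing a relator's tail contains its head -/
theorem head_mem {G : Type*} [Group G] {f : Fin 9 → G} (hf : Holds f) {S : Subgroup G} {l : ℕ}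
    {w : List ℕ} (hw : (l :: w) ∈ rels) (ht : ∀ m ∈ w, lett f m ∈ S) : lett f l ∈ S := by
  have h := hf _ hw
  rw [evalW_cons] at h
  rw [eq_inv_of_mul_eq_one_left h]
  exact S.inv_mem (list_prod_mem fun x hx => by
    obtain ⟨m, hm, rfl⟩ := List.mem_map.mp hx
    exact ht m hm)

/-- letters of the generators a, b, c, d and those derived so far -/
theorem lett_mem {G : Type*} [Group G] {f : Fin 9 → G} {S : Subgroup G} {m : ℕ}
    (h : ∀ hm : m < 18, f ⟨m / 2, by omega⟩ ∈ S) : lett f m ∈ S := by
  unfold lett
  split_ifs with h1 h2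
  · exact h h1
  · exact S.inv_mem (h h1)
  · exact S.one_mem

/-- The derived generators lie in the subgroup of a, b, c, d. -/
theorem closure_abcd {G : Type*} [Group G] {f : Fin 9 → G} (hf : Holds f) :
    Subgroup.closure (Set.range f) = Subgroup.closure {f 0, f 1, f 2, f 7} := by
  refine le_antisymm ((Subgroup.closure_le _).mpr ?_) (Subgroup.closure_mono ?_)
  · set S := Subgroup.closure {f 0, f 1, f 2, f 7} with hS
    have s0 : f 0 ∈ S := Subgroup.subset_closure (by simp)
    have s1 : f 1 ∈ S := Subgroup.subset_closure (by simp)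
    have s2 : f 2 ∈ S := Subgroup.subset_closure (by simp)
    have s7 : f 7 ∈ S := Subgroup.subset_closure (by simp)
    have step : ∀ (k : ℕ) (hk : k < 9), (∃ w ∈ rels, ∃ t, w = 2 * k :: t ∧
        ∀ m ∈ t, ∀ hm : m < 18, f ⟨m / 2, by omega⟩ ∈ S) → f ⟨k, hk⟩ ∈ S := by
      rintro k hk ⟨w, hw, t, rfl, ht⟩
      have := head_mem hf hw fun m hm => lett_mem (ht m hm)
      rw [lett, dif_pos (by omega), if_pos (by omega)] at this
      convert this using 2
      exact Fin.ext (by simp)
    have s3 : f 3 ∈ S := step 3 (by norm_num) ⟨_, List.getElem_mem (l := rels) (n := 5) (by decide),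
      _, rfl, fun m hm => by fin_cases hm <;> intro _ <;> assumption⟩
    have s4 : f 4 ∈ S := step 4 (by norm_num) ⟨_, List.getElem_mem (l := rels) (n := 6) (by decide),
      _, rfl, fun m hm => by fin_cases hm <;> intro _ <;> assumption⟩
    have s5 : f 5 ∈ S := step 5 (by norm_num) ⟨_, List.getElem_mem (l := rels) (n := 7) (by decide),
      _, rfl, fun m hm => by fin_cases hm <;> intro _ <;> assumption⟩
    have s6 : f 6 ∈ S := step 6 (by norm_num) ⟨_, List.getElem_mem (l := rels) (n := 8) (by decide),
      _, rfl, fun m hm => by fin_cases hm <;> intro _ <;> assumption⟩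
    have s8 : f 8 ∈ S := step 8 (by norm_num) ⟨_, List.getElem_mem (l := rels) (n := 27) (by decide),
      _, rfl, fun m hm => by fin_cases hm <;> intro _ <;> assumption⟩
    rintro _ ⟨g, rfl⟩
    fin_cases g <;> assumption
  · rintro _ (rfl | rfl | rfl | rfl) <;> exact Set.mem_range_self _

end Cfsg.Agent.H27.LyG2
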