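import Cfsg.Agent.H27.LyG2.LtCheck

/-!
Generated certificate: 5 cosets (level 0).
-/

set_option autoImplicit false
set_option Elab.async false

namespace Cfsg.Agent.H27.LyG2.T0

open Cfsg.Agent.H45

/-- the letters -/
def ls : List ℕ := [12, 13]

/-- the letters of the smaller subgroup -/
def ms : List ℕ := []

/-- inverse letters -/
def iv : List ℕ := [1, 0]

/-- packed columns -/
def cols : List ℕ := [
  0x20004000000030001,
  0x30001000400000002]

/-- the data -/
def dat : Dat := ⟨2, iv, cols, [[0,0,0,0,0]], []⟩

/-- packed tree -/
def tree : List ℕ := [
  0x800201800100800001800000]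

/-- deductions -/
def blks : List Blk := [
  Blk.gaps 0x8000000002]

set_option maxRecDepth 100000 in
theorem close_ok : closeCheck dat 5 tree blks = true := by decide +kernel

set_option maxRecDepth 100000 in
theorem lt_ok : ltI 2 5 iv cols = true := by decide +kernel

end Cfsg.Agent.H27.LyG2.T0
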