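import Cfsg.Agent.H27.LyG2.LtCheck

/-!
Generated certificate: 5 cosets (level 1).
-/

set_option autoImplicit false
set_option Elab.async false

namespace Cfsg.Agent.H27.LyG2.T1

open Cfsg.Agent.H45

/-- the letters -/
def ls : List ℕ := [12, 13, 10, 11]

/-- the letters of the smaller subgroup -/
def ms : List ℕ := [12, 13]

/-- inverse letters -/
def iv : List ℕ := [1, 0, 3, 2]

/-- packed columns -/
def cols : List ℕ := [
  0x40003000200010000,
  0x40003000200010000,
  0x20004000000030001,
  0x30001000400000002]

/-- the data -/
def dat : Dat := ⟨4, iv, cols, [[0,0,0,0,0], [3,1,2,0], [2,2,2,2,2]], [[0]]⟩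

/-- packed tree -/
def tree : List ℕ := [
  0x800203800102800003800002]

/-- deductions -/
def blks : List Blk := [
  Blk.gaps 0x80003004038000200401800010040380000004018000000c008000000802]

set_option maxRecDepth 100000 in
theorem close_ok : closeCheck dat 5 tree blks = true := by decide +kernel

set_option maxRecDepth 100000 in
theorem lt_ok : ltI 4 5 iv cols = true := by decide +kernel

end Cfsg.Agent.H27.LyG2.T1
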