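import Cfsg.Agent.H27.LyG2.LtCheck

/-!
Generated certificate: 5 cosets (level 2).
-/

set_option autoImplicit false
set_option Elab.async false

namespace Cfsg.Agent.H27.LyG2.T2

open Cfsg.Agent.H45

/-- the letters -/
def ls : List ℕ := [12, 13, 10, 11, 8, 9]

/-- the letters of the smaller subgroup -/
def ms : List ℕ := [12, 13, 10, 11]

/-- inverse letters -/
def iv : List ℕ := [1, 0, 3, 2, 5, 4]

/-- packed columns -/
def cols : List ℕ := [
  0x40003000200010000,
  0x40003000200010000,
  0x40003000200010000,
  0x40003000200010000,
  0x20004000000030001,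
  0x30001000400000002]

/-- the data -/
def dat : Dat := ⟨6, iv, cols, [[0,0,0,0,0], [5,1,4,0], [3,1,2,0], [5,3,4,2,0], [4,4,4,4,4], [2,2,2,2,2]], [[0], [2]]⟩

/-- packed tree -/
def tree : List ℕ := [
  0x800205800104800005800004]

/-- deductions -/
def blks : List Blk := [
  Blk.gaps 0x8000300c038000200c018000100c038000000c0180003004038000200401800010040380000004018000001c0080000018008000001002]

set_option maxRecDepth 100000 in
theorem close_ok : closeCheck dat 5 tree blks = true := by decide +kernel

set_option maxRecDepth 100000 in
theorem lt_ok : ltI 6 5 iv cols = true := by decide +kernel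

end Cfsg.Agent.H27.LyG2.T2
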