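import Cfsg.Agent.H27.LyG2.LtCheck

/-!
Generated certificate: 5 cosets (level 4).
-/

set_option autoImplicit false
set_option Elab.async false

namespace Cfsg.Agent.H27.LyG2.T4

open Cfsg.Agent.H45

/-- the letters -/
def ls : List ℕ := [12, 13, 10, 11, 8, 9, 6, 7, 4, 5]

/-- the letters of the smaller subgroup -/
def ms : List ℕ := [12, 13, 10, 11, 8, 9, 6, 7]

/-- inverse letters -/
def iv : List ℕ := [1, 0, 3, 2, 5, 4, 7, 6, 9, 8]

/-- packed columns -/
def cols : List ℕ := [
  0x40003000200010000,
  0x40003000200010000,
  0x40003000200010000,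
  0x40003000200010000,
  0x40003000200010000,
  0x40003000200010000,
  0x40003000200010000,
  0x40003000200010000,
  0x20004000000030001,
  0x30001000400000002]

/-- the data -/
def dat : Dat := ⟨10, iv, cols, [[0,7,9,6,8], [8,8,8,8,8], [0,0,0,0,0], [9,1,8,0], [7,1,6,0], [5,1,4,0], [3,1,2,0], [9,5,8,4,0,0], [9,3,8,2,1,1], [7,5,6,4,0], [7,3,6,2], [5,3,4,2,0], [6,6,6,6,6], [4,4,4,4,4], [2,2,2,2,2]], [[0], [2], [4], [6]]⟩

/-- packed tree -/
def tree : List ℕ := [
  0x800209800108800009800008]

/-- deductions -/
def blks : List Blk := [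
  Blk.gaps 0x80003000018000200003800010000180003020038000202001800010200380000020018000301c038000201c018000101c038000001c018000300c038000200c018000100c038000000c0180000000038000004800800000440080000040008000003c008000000402]

set_option maxRecDepth 100000 in
theorem close_ok : closeCheck dat 5 tree blks = true := by decide +kernel

set_option maxRecDepth 100000 in
theorem lt_ok : ltI 10 5 iv cols = true := by decide +kernel

end Cfsg.Agent.H27.LyG2.T4
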