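import Cfsg.Agent.H27.LyG2.T6Data

/-!
Kernel check of the generated certificate (level 6).
-/

set_option autoImplicit false
set_option Elab.async false

namespace Cfsg.Agent.H27.LyG2.T6

open Cfsg.Agent.H45

set_option maxRecDepth 100000 in
theorem seg4_ok : segCheck dat seg4 K4 K5 = true := by decide +kernel

end Cfsg.Agent.H27.LyG2.T6
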