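import Cfsg.Agent.H27.LyG2.T6S0
import Cfsg.Agent.H27.LyG2.T6S1
import Cfsg.Agent.H27.LyG2.T6S2
import Cfsg.Agent.H27.LyG2.T6S3
import Cfsg.Agent.H27.LyG2.T6S4
import Cfsg.Agent.H27.LyG2.T6S5
import Cfsg.Agent.H27.LyG2.T6S6

/-!
Kernel check of the generated certificate (level 6).
-/

set_option autoImplicit false
set_option Elab.async false

namespace Cfsg.Agent.H27.LyG2.T6

open Cfsg.Agent.H45

set_option maxRecDepth 100000 in
theorem tree_ok : treeAll dat tree 0 1 (fun K j => Nat.beq j 3906 && Nat.beq K K0) = true := by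
  decide +kernel

set_option maxRecDepth 100000 in
theorem full_ok : Nat.beq (K7 >>> 64) (2 ^ (3906 * dat.L) - 1) = true := by decide +kernel

set_option maxRecDepth 100000 in
theorem lt_ok : ltI 18 3906 iv cols = true := by decide +kernel

/-- the segments -/
def segs : List (List Blk × ℕ) := [(seg0, K1), (seg1, K2), (seg2, K3), (seg3, K4), (seg4, K5), (seg5, K6), (seg6, K7)]

theorem segs_ok : SegsOK dat K0 segs K7 :=
  ⟨seg0_ok, seg1_ok, seg2_ok, seg3_ok, seg4_ok, seg5_ok, seg6_ok, rfl⟩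

end Cfsg.Agent.H27.LyG2.T6
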