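import Cfsg.Agent.H45.CosetGroup
import Cfsg.Agent.H27.LyG2.Pres
import Cfsg.Agent.H27.LyG2.T0
import Cfsg.Agent.H27.LyG2.T1
import Cfsg.Agent.H27.LyG2.T2
import Cfsg.Agent.H27.LyG2.T3
import Cfsg.Agent.H27.LyG2.T4
import Cfsg.Agent.H27.LyG2.T5
import Cfsg.Agent.H27.LyG2.T6

/-!
`K44` has at most `|G₂(5)| = 5859000000` elements.
-/

set_option autoImplicit false

namespace Cfsg.Agent.H27.LyG2

open Cfsg.Agent.H45

/-- the letters of `K44` -/
def ek : ℕ → K44 := lett kgen

/-- the subgroup of a list of letters -/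
def sub (ls : List ℕ) : Subgroup K44 := Subgroup.closure {g | ∃ l ∈ ls, ek l = g}

theorem pow_conj_one {G : Type*} [Group G] {x g c : G} (h : x * (g⁻¹ * c⁻¹ * g) = 1)
    (hc : c ^ 5 = 1) : x ^ 5 = 1 := by
  have hx : x = g⁻¹ * c * g := by rw [eq_inv_of_mul_eq_one_left h]; group
  rw [hx, show g⁻¹ * c * g = g⁻¹ * c * g⁻¹⁻¹ by rw [inv_inv], conj_pow, hc]; group

theorem rel_all : ∀ w ∈ rels ++ fifths, evalW ek w = 1 := by
  intro w hw
  rcases List.mem_append.mp hw with hw | hw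
  · exact kgen_holds w hw
  · have c5 : kgen 2 ^ 5 = 1 := by
      have := kgen_holds _ (List.getElem_mem (l := rels) (n := 9) (by decide))
      simpa [rels, evalW, lett, pow_succ, mul_assoc] using this
    have e3 : kgen 3 * ((kgen 0)⁻¹ * (kgen 2)⁻¹ * kgen 0) = 1 := by
      have := kgen_holds _ (List.getElem_mem (l := rels) (n := 5) (by decide))
      simpa [rels, evalW, lett, mul_assoc] using this
    have e4 : kgen 4 * ((kgen 1)⁻¹ * (kgen 2)⁻¹ * kgen 1) = 1 := by
      have := kgen_holds _ (List.getElem_mem (l := rels) (n := 6) (by decide))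
      simpa [rels, evalW, lett, mul_assoc] using this
    have e5 : kgen 5 * ((kgen 1)⁻¹⁻¹ * (kgen 2)⁻¹ * (kgen 1)⁻¹) = 1 := by
      have := kgen_holds _ (List.getElem_mem (l := rels) (n := 7) (by decide))
      simpa [rels, evalW, lett, mul_assoc] using this
    simp only [fifths, List.mem_cons, List.not_mem_nil, or_false] at hw
    rcases hw with rfl | rfl | rfl
    · simpa [evalW, ek, lett, pow_succ, mul_assoc] using pow_conj_one e3 c5
    · simpa [evalW, ek, lett, pow_succ, mul_assoc] using pow_conj_one e4 c5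
    · simpa [evalW, ek, lett, pow_succ, mul_assoc] using pow_conj_one e5 c5

theorem evalW_map {G : Type*} [Group G] (e : ℕ → G) (σ : ℕ → ℕ) (w : List ℕ) :
    evalW e (w.map σ) = evalW (fun l => e (σ l)) w := by
  simp [evalW, List.map_map, Function.comp_def]

/-- the side conditions of one step -/
def stepOK (D : Dat) (ls ms : List ℕ) : Bool :=
  decide (D.L = ls.length) &&
    ((List.range D.L).all fun l => decide (linv D.iv l < D.L) &&
      decide (ls.getD (linv D.iv l) 18 = linv iv (ls.getD l 18))) &&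
    decide (D.iv.length = D.L) &&
    (D.R.all fun w => decide ((w.map fun l => ls.getD l 18) ∈ rels ++ fifths)) &&
    D.S.all fun w => w.all fun l => decide (ls.getD l 18 ∈ ms)

theorem bound_step {D : Dat} {n m : ℕ} {ls ms : List ℕ} (hok : stepOK D ls ms = true) (hn : 0 < n)
    (hT : ∀ l, l < D.L → ∀ i, i < n → tget D.cols i l < n)
    (hcert : ∀ (H E : Subgroup K44) (e : ℕ → K44), Hyp D e H → (∀ l, l < D.L → e l ∈ E) →
      ∃ w : ℕ → K44, w 0 = 1 ∧
        ∀ i, i < n → ∀ l, l < D.L → w i * e l * (w (tget D.cols i l))⁻¹ ∈ H)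
    (hm : Finite (sub ms) ∧ Nat.card (sub ms) ≤ m) :
    Finite (sub ls) ∧ Nat.card (sub ls) ≤ n * m := by
  simp only [stepOK, Bool.and_eq_true, decide_eq_true_eq, List.all_eq_true, List.mem_range] at hok
  obtain ⟨⟨⟨⟨hL, hiv⟩, hlen⟩, hR⟩, hS⟩ := hok
  let e : ℕ → K44 := fun l => ek (ls.getD l 18)
  have hinv : ∀ l, e (linv D.iv l) = (e l)⁻¹ := by
    intro l
    show ek _ = (ek _)⁻¹
    rcases Nat.lt_or_ge l D.L with h | h
    · rw [(hiv l h).2]; exact lett_linv _ _
    · rw [linv, List.getD_eq_default _ _ (by omega : D.iv.length ≤ l),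
        List.getD_eq_default _ _ (by omega : ls.length ≤ l)]
      simp [ek, lett]
  have hE : ∀ l, l < D.L → e l ∈ sub ls := fun l hl => Subgroup.subset_closure ⟨_, by
    rw [List.getD_eq_getElem _ _ (hL ▸ hl)]; exact List.getElem_mem _, rfl⟩
  have hD : Hyp D e (sub ms) := ⟨hinv, fun w hw => by
      rw [← evalW_map ek (fun l => ls.getD l 18)]
      exact rel_all _ (hR w hw),
    fun w hw => list_prod_mem fun x hx => by
      obtain ⟨l, hl, rfl⟩ := List.mem_map.mp hx
      exact Subgroup.subset_closure ⟨_, hS w hw l hl, rfl⟩⟩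
  obtain ⟨w, hw0, hw⟩ := hcert _ _ e hD hE
  have := hm.1
  refine card_le_of_cosets (w := w) (cosets_exhaust (e := e) (iv := D.iv) ?_
    (fun l hl => ⟨(hiv l hl).1, hinv l⟩) hT hn hw0 hw) hm.2
  refine (Subgroup.closure_le _).mpr ?_
  rintro _ ⟨x, hx, rfl⟩
  obtain ⟨k, hk, rfl⟩ := List.getElem_of_mem hx
  refine Subgroup.subset_closure ⟨k, hL ▸ hk, ?_⟩
  show ek _ = ek _
  rw [List.getD_eq_getElem _ _ hk]

theorem small_step {D : Dat} {n : ℕ} {tree : List ℕ} {bs : List Blk}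
    (h : closeCheck D n tree bs = true) (H E : Subgroup K44) (e : ℕ → K44) (hD : Hyp D e H)
    (hE : ∀ l, l < D.L → e l ∈ E) : ∃ w : ℕ → K44, w 0 = 1 ∧
      ∀ i, i < n → ∀ l, l < D.L → w i * e l * (w (tget D.cols i l))⁻¹ ∈ H := by
  obtain ⟨-, w, hw0, -, hw⟩ := closeCheck_sound hD hE h
  exact ⟨w, hw0, hw⟩

theorem big_step {D : Dat} {n : ℕ} {tree : List ℕ} {K0 K1 : ℕ} {segs : List (List Blk × ℕ)}
    (h1 : treeAll D tree 0 1 (fun K j => Nat.beq j n && Nat.beq K K0) = true)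
    (h2 : SegsOK D K0 segs K1) (h3 : Nat.beq (K1 >>> 64) (2 ^ (n * D.L) - 1) = true)
    (H E : Subgroup K44) (e : ℕ → K44) (hD : Hyp D e H)
    (hE : ∀ l, l < D.L → e l ∈ E) : ∃ w : ℕ → K44, w 0 = 1 ∧
      ∀ i, i < n → ∀ l, l < D.L → w i * e l * (w (tget D.cols i l))⁻¹ ∈ H := by
  obtain ⟨w, hw0, -, hw⟩ := closeSegs_sound hD hE h1 h2 h3
  exact ⟨w, hw0, hw⟩

theorem sub_top : sub T6.ls = ⊤ := by
  refine eq_top_iff.mpr ?_
  rw [← PresentedGroup.closure_range_of relSet]
  refine Subgroup.closure_mono ?_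
  rintro _ ⟨g, rfl⟩
  fin_cases g <;> first
    | exact ⟨0, by decide, rfl⟩
    | exact ⟨2, by decide, rfl⟩
    | exact ⟨4, by decide, rfl⟩
    | exact ⟨6, by decide, rfl⟩
    | exact ⟨8, by decide, rfl⟩
    | exact ⟨10, by decide, rfl⟩
    | exact ⟨12, by decide, rfl⟩
    | exact ⟨14, by decide, rfl⟩
    | exact ⟨16, by decide, rfl⟩

theorem sub_congr {a b : List ℕ} (h : a = b) {n : ℕ} (hs : Finite (sub a) ∧ Nat.card (sub a) ≤ n) :
    Finite (sub b) ∧ Nat.card (sub b) ≤ n := h ▸ hs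

theorem card_K44 : Finite K44 ∧ Nat.card K44 ≤ 5859000000 := by
  have h0 : Finite (sub T0.ms) ∧ Nat.card (sub T0.ms) ≤ 1 := by
    have : sub T0.ms = ⊥ := by simp [sub, T0.ms]
    rw [this]; exact ⟨inferInstance, le_of_eq Subgroup.card_bot⟩
  have h1 := bound_step (D := T0.dat) (ls := T0.ls) (by decide +kernel) (by norm_num)
    (ltI_sound T0.lt_ok) (small_step T0.close_ok) h0
  have h2 := bound_step (D := T1.dat) (ls := T1.ls) (ms := T1.ms) (by decide +kernel) (by norm_num)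
    (ltI_sound T1.lt_ok) (small_step T1.close_ok) (sub_congr (by decide) h1)
  have h3 := bound_step (D := T2.dat) (ls := T2.ls) (ms := T2.ms) (by decide +kernel) (by norm_num)
    (ltI_sound T2.lt_ok) (small_step T2.close_ok) (sub_congr (by decide) h2)
  have h4 := bound_step (D := T3.dat) (ls := T3.ls) (ms := T3.ms) (by decide +kernel) (by norm_num)
    (ltI_sound T3.lt_ok) (small_step T3.close_ok) (sub_congr (by decide) h3)
  have h5 := bound_step (D := T4.dat) (ls := T4.ls) (ms := T4.ms) (by decide +kernel) (by norm_num)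
    (ltI_sound T4.lt_ok) (small_step T4.close_ok) (sub_congr (by decide) h4)
  have hmono : ∀ {a b : List ℕ}, (∀ l ∈ a, l ∈ b) → sub a ≤ sub b := fun h =>
    Subgroup.closure_mono fun g ⟨l, hl, he⟩ => ⟨l, h l hl, he⟩
  have hperm : sub T5.ms = sub T4.ls := le_antisymm (hmono (by decide)) (hmono (by decide))
  have h6 := bound_step (D := T5.dat) (ls := T5.ls) (ms := T5.ms) (by decide +kernel) (by norm_num)
    (ltI_sound T5.lt_ok) (small_step T5.close_ok) (hperm ▸ h5)
  have habc : sub T6.ms ≤ sub T5.ls := hmono (by decide)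
  have := h6.1
  have h6' : Finite (sub T6.ms) ∧ Nat.card (sub T6.ms) ≤ _ :=
    ⟨Finite.of_injective _ (Subgroup.inclusion_injective habc),
      (Subgroup.card_le_of_le habc).trans h6.2⟩
  have h7 := bound_step (D := T6.dat) (ls := T6.ls) (ms := T6.ms) (by decide +kernel) (by norm_num)
    (ltI_sound T6.lt_ok) (big_step T6.tree_ok T6.segs_ok T6.full_ok) h6'
  rw [sub_top] at h7
  have hfin := h7.1
  refine ⟨Finite.of_equiv _ Subgroup.topEquiv.toEquiv, ?_⟩
  rw [← Nat.card_congr (Subgroup.topEquiv (G := K44)).toEquiv]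
  exact h7.2.trans (le_of_eq (by norm_num))

end Cfsg.Agent.H27.LyG2
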