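import Mathlib

/-!
The natural seven-dimensional matrices over the field with five elements for the letters a, b, c, c2,
c3, c4, c5, d, e: top left blocks of the 111-dimensional matrices of notes/ly/rep16 (row vectors).
-/

set_option autoImplicit false

namespace Cfsg.Agent.H27.LyG2.Data

/-- the letters in seven dimensions, seven bits per entry, entry (i, j) at 7 i + j -/
def gens7 : List ℕ := [
  0x2000000300000010004000000000200001830004004000000300000030000000060000206000010000080,
  0x400000010000003000c00000000020000183000c002000000100000010000000060000206000010000080,
  0x1000000000000010000000000000100002040010001000000100000010000000000000100000000000101,
  0x1000000000000010000000000000100002010004001000000400000010000000000000100000000000181,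
  0x1000000000001010000204080800100040000200081040c20000000010000200000000100080000008001,
  0x1000000000001010000201020c001001000002002010408080000000100000800000001000c000000c001,
  0x1000000000001010600080040c00100000000800181040800000000010000100000010100000000004001,
  0x1000000000001010400080060800100000000800101040c00000000010000180000018100000000010001,
  0x1000000000000810000202080c001000c0000800081020810000000010000200000000100040000008001,
  0x1000000000000810000203020800100080000800201020c1800000001000008000000010010000000c001,
  0x1000000000001810000201080800100100000200081060c080000000100002000000001000c0000008001,
  0x1000000000001810000204020c0010004000020020106082000000001000008000000010008000000c001,
  0x1000000000001810000000000000100000000000001040000000000010000000000000100000000000001,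
  0x1000000000001010000000000000100000000000001060000000000010000000000000100000000000001,
  0x80000000000800000000000000100000000000000080000000000800000000000000100000000000001,
  0x20000000002000000000000000100000000000000020000000002000000000000000100000000000001,
  0x40000000000000006001000000100000010002000040000200000000004000000000180000c0000000001,
  0x40000000000000006001000000100000010002000040000200000000004000000000180000c0000000001]

end Cfsg.Agent.H27.LyG2.Data
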