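import Cfsg.Agent.H45.CosetGroup

/-!
Range and inverse check of packed columns.
-/

set_option autoImplicit false

namespace Cfsg.Agent.H27.LyG2

open Cfsg.Agent.H45

/-- all entries are below `n`, inverse columns undo each other -/
noncomputable def ltI (L n : ℕ) (iv cols : List ℕ) : Bool :=
  (List.range L).all fun l => colOK (cols.getD l 0) (cols.getD (linv iv l) 0) n n

theorem ltI_sound {L n : ℕ} {iv cols : List ℕ} (h : ltI L n iv cols = true) :
    ∀ l, l < L → ∀ i, i < n → tget cols i l < n :=
  fun _ hl i hi => (colOK_sound (range_all h hl) i hi).1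

end Cfsg.Agent.H27.LyG2
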