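import Cfsg.Agent.Compute.MatRep
import Cfsg.Agent.H27.LyG2.Pres
import Cfsg.Agent.H27.LyG2.Data
import Cfsg.Prelude.Def_ChevG2

/-!
The nine matrices satisfy the relators 1-44 and generate `G₂(5)`.
-/

set_option autoImplicit false
set_option maxRecDepth 100000
set_option Elab.async false

namespace Cfsg.Agent.H27.LyG2.Model

open Cfsg.Agent.Compute Cfsg.Agent.H27.LyG2 Data
open Cfsg.Agent.H45 (evalW evalW_cons linv)

local instance : Fact (Nat.Prime 5) := ⟨by norm_num⟩

/-- packed operations -/
noncomputable def o : Ops ℕ := matOps 8 14 5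

/-- value of a word -/
noncomputable def evM (g : List ℕ) (w : List ℕ) : ℕ :=
  List.rec o.one (fun l _ ih => o.mul (nth o.one g l) ih) w

abbrev Idx : Type := Cfsg.Lie.chevG2.Idx

/-- numbering of the coordinates -/
def idx : Idx ≃ Fin 14 := finSumFinEquiv

abbrev GL14 : Type := GL (Fin 14) (ZMod 5)

/-- soundness of the packed operations -/
noncomputable def S : Sound (G := GL14) o :=
  matSound 8 14 5 (by norm_num) (by norm_num) (by norm_num)

theorem gens_inv : ((List.range 18).all fun l =>
    o.okInv (nth o.one gens l) (nth o.one gens (linv iv l))) = true := by decide +kernel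

theorem gens_len : gens.length = 18 := by decide

theorem roots_inv : ((List.range 12).all fun r => (List.range 5).all fun t =>
    o.okInv (nth o.one roots (5 * r + t)) (nth o.one roots (5 * r + (5 - t) % 5))) = true := by
  decide +kernel

theorem rels_ok : (rels.all fun w => o.eqv (evM gens w) o.one) = true := by decide +kernel

theorem gensAsRoots_ok : ((List.range 18).all fun l =>
    o.eqv (evM roots (nth [] gensAsRoots l)) (nth o.one gens l)) = true := by decide +kernel

theorem rootsAsGens_ok : ((List.range 60).all fun i =>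
    o.eqv (evM gens (nth [] rootsAsGens i)) (nth o.one roots i)) = true := by decide +kernel

/-- a root matrix agrees with its packed form -/
noncomputable def xOK (r : Fin 12) (t : ZMod 5) : Bool :=
  (List.finRange 14).all fun p => (List.finRange 14).all fun q =>
    decide (Cfsg.Lie.chevG2.xMat (ZMod 5) r t (idx.symm p) (idx.symm q)
      = toMat 8 14 5 (nth o.one roots (5 * r.val + ZMod.val t)) p q)

theorem x_ok : ∀ r : Fin 12, ∀ t : ZMod 5, xOK r t = true := by decide +kernel

theorem S_den (a : ℕ) : S.den a = matDen 8 14 5 a := rfl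

theorem S_ok (a : ℕ) : S.ok a = MatOK 8 14 5 a := rfl

attribute [local irreducible] S

theorem evM_ok {g : List ℕ} (hg : ∀ i, S.ok (nth o.one g i)) : ∀ w : List ℕ,
    S.ok (evM g w) ∧ S.den (evM g w) = evalW (fun l => S.den (nth o.one g l)) w := by
  intro w
  induction w with
  | nil => exact ⟨S.ok_one, by rw [show evM g [] = o.one from rfl, S.den_one]; rfl⟩
  | cons l t ih =>
    refine ⟨S.ok_mul (hg l) ih.1, ?_⟩
    rw [show evM g (l :: t) = o.mul (nth o.one g l) (evM g t) from rfl,
      S.den_mul (hg l) ih.1, ih.2, evalW_cons]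

theorem nth_ge {α : Type} (d : α) : ∀ (l : List α) (i : ℕ), l.length ≤ i → nth d l i = d := by
  intro l
  induction l with
  | nil => intros; rfl
  | cons a t ih =>
    intro i hi
    cases i with
    | zero => simp at hi
    | succ i => exact ih i (by simpa using hi)

theorem gen_okInv {l : ℕ} (hl : l < 18) :
    S.ok (nth o.one gens l) ∧
      S.den (nth o.one gens (linv iv l)) = (S.den (nth o.one gens l))⁻¹ := by
  obtain ⟨h1, -, h3⟩ := S.okInv_sound
    (List.all_eq_true.mp gens_inv l (List.mem_range.mpr hl))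
  exact ⟨h1, by rw [h3]⟩

theorem gen_ok (l : ℕ) : S.ok (nth o.one gens l) := by
  rcases Nat.lt_or_ge l 18 with h | h
  · exact (gen_okInv h).1
  · rw [nth_ge _ gens l (gens_len ▸ h)]; exact S.ok_one

theorem roots_len : roots.length = 60 := by decide

theorem root_ok (i : ℕ) : S.ok (nth o.one roots i) := by
  rcases Nat.lt_or_ge i 60 with h | h
  · have := List.all_eq_true.mp (List.all_eq_true.mp roots_inv (i / 5) (List.mem_range.mpr (by omega)))
      (i % 5) (List.mem_range.mpr (by omega))
    rw [show 5 * (i / 5) + i % 5 = i by omega] at this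
    exact (S.okInv_sound this).1
  · rw [nth_ge _ roots i (roots_len ▸ h)]; exact S.ok_one

/-- the nine matrices -/
noncomputable def f : Fin 9 → GL14 := fun g => S.den (nth o.one gens (2 * g.val))

theorem lett_f (l : ℕ) : lett f l = S.den (nth o.one gens l) := by
  rcases Nat.lt_or_ge l 18 with h | h
  · interval_cases l <;>
      first
        | rfl
        | exact (gen_okInv (l := _) (by norm_num)).2.symm
  · rw [nth_ge _ gens l (gens_len ▸ h), S.den_one, lett, dif_neg (by omega)]

theorem holds : Holds f := by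
  intro w hw
  rw [show lett f = fun l => S.den (nth o.one gens l) from funext lett_f,
    ← (evM_ok gen_ok w).2, (S.eqv_iff (evM_ok gen_ok w).1 S.ok_one).1
      (List.all_eq_true.mp rels_ok w hw), S.den_one]

/-- reindexing to fourteen coordinates -/
noncomputable def J : GL Idx (ZMod 5) ≃* GL14 :=
  Units.mapEquiv (Matrix.reindexAlgEquiv (ZMod 5) (ZMod 5) idx).toMulEquiv

theorem J_apply (g : GL Idx (ZMod 5)) (p q : Fin 14) :
    (J g).val p q = g.val (idx.symm p) (idx.symm q) := rfl

theorem root_eq (g : GL Idx (ZMod 5)) (r : Fin 12) (t : ZMod 5) :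
    (g : Matrix Idx Idx (ZMod 5)) = Cfsg.Lie.chevG2.xMat (ZMod 5) r t ↔
      J g = S.den (nth o.one roots (5 * r.val + ZMod.val t)) := by
  have hok := root_ok (5 * r.val + ZMod.val t)
  rw [S_ok] at hok
  have key : ∀ p q, toMat 8 14 5 (nth o.one roots (5 * r.val + ZMod.val t)) p q =
      Cfsg.Lie.chevG2.xMat (ZMod 5) r t (idx.symm p) (idx.symm q) :=
    fun p q => (of_decide_eq_true (List.all_eq_true.mp (List.all_eq_true.mp (x_ok r t) p
      (List.mem_finRange _)) q (List.mem_finRange _))).symm
  rw [S_den]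
  constructor
  · intro h
    refine Units.ext (Matrix.ext fun p q => ?_)
    rw [matDen_coe hok, key, J_apply, h]
  · intro h
    refine Matrix.ext fun a b => ?_
    have h1 := congrArg (fun x : GL14 => x.val (idx a) (idx b)) h
    simp only [matDen_coe hok] at h1
    rw [J_apply, key, Equiv.symm_apply_apply, Equiv.symm_apply_apply] at h1
    exact h1

/-- `G₂(5)` in fourteen coordinates -/
noncomputable def G14 : Subgroup GL14 :=
  (Cfsg.Lie.chevG2.group (ZMod 5)).map J.toMonoidHom

theorem G14_eq : G14 = Subgroup.closure (Set.range fun i : Fin 60 =>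
    S.den (nth o.one roots i.val)) := by
  rw [G14, Cfsg.Lie.ChevalleyDatum.group, MonoidHom.map_closure]
  congr 1
  ext y
  constructor
  · rintro ⟨g, ⟨r, t, hg⟩, rfl⟩
    have hv : ZMod.val t < 5 := ZMod.val_lt t
    have hr : r.val < 12 := r.isLt
    exact ⟨⟨5 * r.val + ZMod.val t, by omega⟩, ((root_eq g r t).1 hg).symm⟩
  · rintro ⟨i, rfl⟩
    refine ⟨J.symm (S.den (nth o.one roots i.val)),
      ⟨(⟨i.val / 5, by omega⟩ : Fin 12), ((i.val % 5 : ℕ) : ZMod 5), ?_⟩, J.apply_symm_apply _⟩
    refine (root_eq _ _ _).2 ((J.apply_symm_apply _).trans ?_)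
    congr 2
    rw [ZMod.val_natCast]
    show i.val = 5 * (i.val / 5) + i.val % 5 % 5
    omega

theorem range_eq : (toK holds).range = G14 := by
  rw [range_toK holds, G14_eq]
  refine le_antisymm ((Subgroup.closure_le _).mpr ?_) ((Subgroup.closure_le _).mpr ?_)
  · rintro _ ⟨g, rfl⟩
    have h := List.all_eq_true.mp gensAsRoots_ok (2 * g.val) (List.mem_range.mpr (by omega))
    show S.den _ ∈ _
    rw [← (S.eqv_iff (evM_ok root_ok _).1 (gen_ok _)).1 h, (evM_ok root_ok _).2]
    refine list_prod_mem fun x hx => ?_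
    obtain ⟨m, -, rfl⟩ := List.mem_map.mp hx
    rcases Nat.lt_or_ge m 60 with hm | hm
    · exact Subgroup.subset_closure ⟨⟨m, hm⟩, rfl⟩
    · rw [nth_ge _ roots m (roots_len ▸ hm), S.den_one]; exact one_mem _
  · rintro _ ⟨i, rfl⟩
    have h := List.all_eq_true.mp rootsAsGens_ok i.val (List.mem_range.mpr i.isLt)
    show S.den _ ∈ _
    rw [← (S.eqv_iff (evM_ok gen_ok _).1 (root_ok _)).1 h, (evM_ok gen_ok _).2]
    refine list_prod_mem fun x hx => ?_
    obtain ⟨m, -, rfl⟩ := List.mem_map.mp hx
    rw [← lett_f]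
    exact lett_mem fun hm => Subgroup.subset_closure ⟨_, rfl⟩

end Cfsg.Agent.H27.LyG2.Model
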