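import Cfsg.Agent.H27.LyG2.Bound
import Cfsg.Agent.H27.LyG2.Model
import Cfsg.Agent.H38.Ree.Basic
import Cfsg.Agent.S1059
import Cfsg.Prelude.Def_Spor_Ly

/-!
`⟨a, b, c, d⟩` in the presented Lyons group is a homomorphic image of `G₂(5)`, hence isomorphic to it
as soon as it is nontrivial.
-/

set_option autoImplicit false
set_option linter.style.haveILetI false

namespace Cfsg.Agent.H27.LyG2

open Cfsg.Agent.H45

local instance : Fact (Nat.Prime 5) := ⟨by norm_num⟩

/-- `G₂(5)` -/
abbrev G5 : Type := ↥(Cfsg.Lie.chevG2.group (ZMod 5))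

theorem card_G14 : Nat.card Model.G14 = 5859000000 := by
  have h1 : Nat.card Model.G14 = Nat.card (Cfsg.Lie.chevG2.group (ZMod 5)) :=
    (Nat.card_congr (Subgroup.equivMapOfInjective (Cfsg.Lie.chevG2.group (ZMod 5))
      Model.J.toMonoidHom Model.J.injective).toEquiv).symm
  rw [h1, Cfsg.Agent.S1059.result (ZMod.card 5)]
  norm_num

/-- the presented group on the relators 1-44 is `G₂(5)` -/
theorem exists_equiv : Nonempty (K44 ≃* G5) := by
  obtain ⟨hfin, hle⟩ := card_K44
  have hc : Nat.card (toK Model.holds).range = 5859000000 := by rw [Model.range_eq, card_G14]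
  have hb : Function.Bijective (toK Model.holds).rangeRestrict :=
    (Nat.bijective_iff_surjective_and_card _).mpr ⟨(toK Model.holds).rangeRestrict_surjective,
      le_antisymm (hle.trans hc.ge)
        (Nat.card_le_card_of_surjective _ (toK Model.holds).rangeRestrict_surjective)⟩
  exact ⟨(MulEquiv.ofBijective _ hb).trans <| (MulEquiv.subgroupCongr Model.range_eq).trans
    (Subgroup.equivMapOfInjective (Cfsg.Lie.chevG2.group (ZMod 5)) Model.J.toMonoidHom
      Model.J.injective).symm⟩

theorem isSimple_K44 : IsSimpleGroup K44 := by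
  obtain ⟨e⟩ := exists_equiv
  haveI : IsSimpleGroup G5 := Cfsg.Agent.H38.Ree.G2_simple (by rw [ZMod.card]; norm_num)
  haveI : Nontrivial K44 := e.toEquiv.nontrivial
  exact IsSimpleGroup.isSimpleGroup_of_surjective e.symm.toMonoidHom e.symm.surjective

open Cfsg.Spor

/-- the nine generators among the 39 -/
def lyOf : Fin 9 → Ly.Gen :=
  ![Ly.Gen.a, Ly.Gen.b, Ly.Gen.c, Ly.Gen.c2, Ly.Gen.c3, Ly.Gen.c4, Ly.Gen.c5, Ly.Gen.d, Ly.Gen.e]

/-- `c1` read as `c` -/
def relabel : Ly.Gen → Ly.Gen
  | Ly.Gen.c1 => Ly.Gen.c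
  | x => x

/-- positions in `Ly.extra` of the relators -/
def pos : List ℕ := [0, 1, 2, 3, 4] ++ List.range' 6 38

theorem rels_match : ((List.zip rels pos).all fun p =>
    decide (evalW (lett fun g => FreeGroup.of (lyOf g)) p.1 =
      FreeGroup.map relabel (Ly.extra.getD p.2 1))) = true := by decide +kernel

theorem pos_len : rels.length = pos.length := by decide +kernel

/-- the images in Ly -/
def flY (g : Fin 9) : Cfsg.Spor.Ly :=
  PresentedGroup.of (lyOf g)

theorem mk_extra (i : ℕ) :
    PresentedGroup.mk (coxRelators Ly.edges ∪ {r | r ∈ Ly.extra}) (Ly.extra.getD i 1) = 1 := by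
  rcases Nat.lt_or_ge i Ly.extra.length with h | h
  · rw [List.getD_eq_getElem _ _ h]
    exact PresentedGroup.one_of_mem (Or.inr (List.getElem_mem h))
  · rw [List.getD_eq_default _ _ h, map_one]

theorem flY_holds : Holds flY := by
  intro w hw
  obtain ⟨i, hi, rfl⟩ := List.getElem_of_mem hw
  have hmem : (rels[i], pos[i]'(pos_len ▸ hi)) ∈ List.zip rels pos :=
    List.mem_iff_getElem.mpr ⟨i, by simp [← pos_len, hi], by simp⟩
  have h := of_decide_eq_true (List.all_eq_true.mp rels_match _ hmem)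
  set mk := PresentedGroup.mk (coxRelators Ly.edges ∪ {r | r ∈ Ly.extra})
  have hc1 : mk (FreeGroup.of Ly.Gen.c1) = mk (FreeGroup.of Ly.Gen.c) := by
    have h6 := mk_extra 5
    rw [show Ly.extra.getD 5 1 = Ly.c1 * Ly.c⁻¹ from rfl, map_mul, map_inv] at h6
    exact mul_inv_eq_one.mp h6
  have hmk : mk.comp (FreeGroup.map relabel) = mk := by
    ext x
    cases x <;> first | exact hc1.symm | rfl
  have e1 : evalW (lett flY) rels[i] = mk (evalW (lett fun g => FreeGroup.of (lyOf g)) rels[i]) := by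
    rw [map_evalW]
    exact evalW_congr fun l _ => (map_lett mk _ l).symm
  rw [e1, h, ← MonoidHom.comp_apply, hmk]
  exact mk_extra _

theorem range_flY : (toK flY_holds).range =
    (Subgroup.closure ({Ly.a, Ly.b, Ly.c, Ly.d} : Set (FreeGroup Ly.Gen))).map
      (PresentedGroup.mk (coxRelators Ly.edges ∪ {r | r ∈ Ly.extra})) := by
  rw [range_toK, closure_abcd flY_holds, MonoidHom.map_closure]
  congr 1
  simp [flY, lyOf, Set.image_insert_eq, Ly.a, Ly.b, Ly.c, Ly.d, PresentedGroup.of]

/-- The conclusion of S1710, given nontriviality. -/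
theorem iso_of_ne_one
    (hnt : (PresentedGroup.of Ly.Gen.a : Cfsg.Spor.Ly) ≠ 1) :
    Nonempty (↥((Subgroup.closure ({Ly.a, Ly.b, Ly.c, Ly.d} : Set (FreeGroup Ly.Gen))).map
      (PresentedGroup.mk (coxRelators Ly.edges ∪ {r | r ∈ Ly.extra}))) ≃* G5) := by
  obtain ⟨e⟩ := exists_equiv
  haveI := isSimple_K44
  have hinj : Function.Injective (toK flY_holds) := by
    rw [← MonoidHom.ker_eq_bot_iff]
    refine (Subgroup.Normal.eq_bot_or_eq_top inferInstance).resolve_right fun h => hnt ?_
    have : kgen 0 ∈ (toK flY_holds).ker := by rw [h]; trivial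
    rw [MonoidHom.mem_ker, toK_of] at this
    exact this
  exact ⟨((MulEquiv.subgroupCongr range_flY).symm.trans (MonoidHom.ofInjective hinj).symm).trans e⟩

end Cfsg.Agent.H27.LyG2
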