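import Cfsg.Agent.Compute.MatRep
import Cfsg.Agent.H27.LyG2.Main
import Cfsg.Agent.H27.LyG2.Data7

/-!
The natural seven-dimensional representation of `K44 = G₂(5)`, the word test for `⟨a, b, c, d⟩` in
the presented Lyons group, and the order of that subgroup.
-/

set_option autoImplicit false
set_option maxRecDepth 100000
set_option Elab.async false
set_option linter.style.haveILetI false

namespace Cfsg.Agent.H27.LyG2

open Cfsg.Agent.Compute Data
open Cfsg.Agent.H45 (evalW evalW_cons linv)
open Cfsg.Spor

namespace Seven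

local instance : Fact (Nat.Prime 5) := ⟨by norm_num⟩

/-- packed operations -/
noncomputable def o : Ops ℕ := matOps 7 7 5

abbrev GL7 : Type := GL (Fin 7) (ZMod 5)

/-- soundness of the packed operations -/
noncomputable def S : Sound (G := GL7) o :=
  matSound 7 7 5 (by norm_num) (by norm_num) (by norm_num)

/-- value of a word -/
noncomputable def evM (w : List ℕ) : ℕ :=
  List.rec o.one (fun l _ ih => o.mul (nth o.one gens7 l) ih) w

theorem inv_ok : ((List.range 18).all fun l =>
    o.okInv (nth o.one gens7 l) (nth o.one gens7 (linv iv l))) = true := by decide +kernel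

theorem rels_ok : (rels.all fun w => o.eqv (evM w) o.one) = true := by decide +kernel

theorem len_ok : gens7.length = 18 := by decide

theorem first_ne : o.eqv (nth o.one gens7 0) o.one = false := by decide +kernel

attribute [local irreducible] S

theorem gen_ok (l : ℕ) : S.ok (nth o.one gens7 l) := by
  rcases Nat.lt_or_ge l 18 with h | h
  · exact (S.okInv_sound (List.all_eq_true.mp inv_ok l (List.mem_range.mpr h))).1
  · rw [Model.nth_ge _ gens7 l (len_ok ▸ h)]; exact S.ok_one

/-- the nine matrices -/
noncomputable def f : Fin 9 → GL7 := fun g => S.den (nth o.one gens7 (2 * g.val))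

theorem lett_f (l : ℕ) : lett f l = S.den (nth o.one gens7 l) := by
  rcases Nat.lt_or_ge l 18 with h | h
  · interval_cases l <;>
      first
        | rfl
        | exact ((S.okInv_sound (List.all_eq_true.mp inv_ok _ (List.mem_range.mpr
            (by norm_num)))).2.2).symm
  · rw [Model.nth_ge _ gens7 l (len_ok ▸ h), S.den_one, lett, dif_neg (by omega)]

theorem evM_ok : ∀ w : List ℕ, S.ok (evM w) ∧ S.den (evM w) = evalW (lett f) w := by
  intro w
  induction w with
  | nil => exact ⟨S.ok_one, by rw [show evM [] = o.one from rfl, S.den_one]; rfl⟩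
  | cons l t ih =>
    refine ⟨S.ok_mul (gen_ok l) ih.1, ?_⟩
    rw [show evM (l :: t) = o.mul (nth o.one gens7 l) (evM t) from rfl,
      S.den_mul (gen_ok l) ih.1, ih.2, evalW_cons, lett_f]

theorem holds : Holds f := by
  intro w hw
  rw [← (evM_ok w).2, (S.eqv_iff (evM_ok w).1 S.ok_one).1 (List.all_eq_true.mp rels_ok w hw),
    S.den_one]

theorem f_zero_ne : f 0 ≠ 1 := by
  intro h
  rw [← S.den_one] at h
  have := (S.eqv_iff (gen_ok 0) S.ok_one).2 h
  rw [first_ne] at this
  exact Bool.false_ne_true this

/-- The natural representation is faithful. -/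
theorem hom_injective : Function.Injective (toK holds) := by
  haveI := isSimple_K44
  rw [← MonoidHom.ker_eq_bot_iff]
  refine (Subgroup.Normal.eq_bot_or_eq_top inferInstance).resolve_right fun h => f_zero_ne ?_
  have : kgen 0 ∈ (toK holds).ker := by rw [h]; trivial
  rwa [MonoidHom.mem_ker, toK_of] at this

end Seven

/-- A word in the letters is trivial in Ly as soon as its seven-dimensional matrix is. -/
theorem word_eq_one {w : List ℕ} (h : evalW (lett Seven.f) w = 1) : evalW (lett flY) w = 1 := by
  have e : ∀ {G : Type} [Group G] {f : Fin 9 → G} (hf : Holds f),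
      toK hf (evalW (lett kgen) w) = evalW (lett f) w := fun hf => by
    rw [map_evalW]
    exact Cfsg.Agent.H27.LyG2.evalW_congr fun l _ => by simp [map_lett, toK_of]
  have h1 : evalW (lett kgen) w = 1 := Seven.hom_injective (by rw [e, h, map_one])
  rw [← e flY_holds, h1, map_one]

/-- the same, checked by packed matrices -/
theorem word_eq_one_of_check {w : List ℕ} (h : Seven.o.eqv (Seven.evM w) Seven.o.one = true) :
    evalW (lett flY) w = 1 :=
  word_eq_one (by
    rw [← (Seven.evM_ok w).2, (Seven.S.eqv_iff (Seven.evM_ok w).1 Seven.S.ok_one).1 h,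
      Seven.S.den_one])

/-- `⟨a, b, c, d⟩` in Ly, in the form of the statements -/
abbrev H4 : Subgroup Cfsg.Spor.Ly :=
  (Subgroup.closure ({Ly.a, Ly.b, Ly.c, Ly.d} : Set (FreeGroup Ly.Gen))).map
    (PresentedGroup.mk (coxRelators Ly.edges ∪ {r | r ∈ Ly.extra}))

theorem card_H4_le : Finite H4 ∧ Nat.card H4 ≤ 5859000000 := by
  obtain ⟨hfin, hle⟩ := card_K44
  have e : (toK flY_holds).range = H4 := range_flY
  rw [← e]
  exact ⟨Finite.of_surjective _ (toK flY_holds).rangeRestrict_surjective,
    (Nat.card_le_card_of_surjective _ (toK flY_holds).rangeRestrict_surjective).trans hle⟩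

theorem card_H4 (hnt : (PresentedGroup.of Ly.Gen.a : Cfsg.Spor.Ly) ≠ 1) :
    Nat.card H4 = 5859000000 := by
  obtain ⟨e⟩ := iso_of_ne_one hnt
  haveI : Fact (Nat.Prime 5) := ⟨by norm_num⟩
  rw [Nat.card_congr e.toEquiv, Cfsg.Agent.S1059.result (ZMod.card 5)]
  norm_num

end Cfsg.Agent.H27.LyG2
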